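import Cfsg.Agent.Lib.PermComp.OutP.Master2
import Cfsg.Agent.Lib.PermComp.OutP.He.DataP0

set_option autoImplicit false
set_option maxRecDepth 100000
set_option maxHeartbeats 0

namespace Cfsg.Agent.Lib.PermComp.OutP.He

open Cfsg Cfsg.Agent.Lib.PermComp.OutP
open Cfsg.Agent.Lib.PermComp.Core (force)
open Cfsg.Agent.Lib.PermComp.Kron (rangeAll rangeAll_spec)

def n : Nat := 2058
def mF : Nat := 66
noncomputable def TT_T : Nat := (Nat.lor (Nat.lor (Nat.lor (Nat.lor (Nat.lor (Nat.lor (Nat.lor TT_p0 (Nat.shiftLeft TT_p1 15996)) (Nat.shiftLeft (Nat.lor TT_p2 (Nat.shiftLeft TT_p3 15996)) 31992)) (Nat.shiftLeft (Nat.lor (Nat.lor TT_p4 (Nat.shiftLeft TT_p5 15996)) (Nat.shiftLeft (Nat.lor TT_p6 (Nat.shiftLeft TT_p7 15996)) 31992)) 63984)) (Nat.shiftLeft (Nat.lor (Nat.lor (Nat.lor TT_p8 (Nat.shiftLeft TT_p9 15996)) (Nat.shiftLeft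 (Nat.lor TT_p10 (Nat.shiftLeft TT_p11 15996)) 31992)) (Nat.shiftLeft (Nat.lor (Nat.lor TT_p12 (Nat.shiftLeft TT_p13 15996)) (Nat.shiftLeft (Nat.lor TT_p14 (Nat.shiftLeft (Nat.lor TT_p15 (Nat.shiftLeft TT_p16 15996)) 15996)) 31992)) 63984)) 127968)) (Nat.shiftLeft (Nat.lor (Nat.lor (Nat.lor (Nat.lor TT_p17 (Nat.shiftLeft TT_p18 15996)) (Nat.shiftLeft (Nat.lor TT_p19 (Nat.shiftLeft TT_p20 15996)) 31992)) (Nat.shiftLeft (Nat.lor (Nat.lor TT_p21 (Nat.shiftLeft TT_p22 15996)) (Nat.shiftLeft (Nat.lor TT_p23 (Nat.shiftLeft (Nat.lor TT_p24 (Nat.shiftLeft TT_p25 15996)) 15996)) 31992)) 63984)) (Nat.shiftLeft (Nat.lor (Nat.lor (Nat.lor TT_p26 (Nat.shiftLeft TT_p27 15996)) (Nat.shiftLeft (Nat.lor TT_p28 (Nat.shiftLeft TT_p29 15996)) 31992)) (Nat.shiftLeft (Nat.lor (Nat.lor TT_p30 (Nat.shiftLeft TT_p31 15996)) (Nat.shiftLeft (Nat.lor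 TT_p32 (Nat.shiftLeft (Nat.lor TT_p33 (Nat.shiftLeft TT_p34 15996)) 15996)) 31992)) 63984)) 143964)) 271932)) (Nat.shiftLeft (Nat.lor (Nat.lor (Nat.lor (Nat.lor (Nat.lor TT_p35 (Nat.shiftLeft TT_p36 15996)) (Nat.shiftLeft (Nat.lor TT_p37 (Nat.shiftLeft TT_p38 15996)) 31992)) (Nat.shiftLeft (Nat.lor (Nat.lor TT_p39 (Nat.shiftLeft TT_p40 15996)) (Nat.shiftLeft (Nat.lor TT_p41 (Nat.shiftLeft TT_p42 15996)) 31992)) 63984)) (Nat.shiftLeft (Nat.lor (Nat.lor (Nat.lor TT_p43 (Nat.shiftLeft TT_p44 15996)) (Nat.shiftLeft (Nat.lor TT_p45 (Nat.shiftLeft TT_p46 15996)) 31992)) (Nat.shiftLeft (Nat.lor (Nat.lor TT_p47 (Nat.shiftLeft TT_p48 15996)) (Nat.shiftLeft (Nat.lor TT_p49 (Nat.shiftLeft (Nat.lor TT_p50 (Nat.shiftLeft TT_p51 15996)) 15996)) 31992)) 63984)) 127968)) (Nat.shiftLeft (Nat.lor (Nat.lor (Nat.lor (Nat.lor TT_p52 (Nat.shiftLeft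 TT_p53 15996)) (Nat.shiftLeft (Nat.lor TT_p54 (Nat.shiftLeft TT_p55 15996)) 31992)) (Nat.shiftLeft (Nat.lor (Nat.lor TT_p56 (Nat.shiftLeft TT_p57 15996)) (Nat.shiftLeft (Nat.lor TT_p58 (Nat.shiftLeft (Nat.lor TT_p59 (Nat.shiftLeft TT_p60 15996)) 15996)) 31992)) 63984)) (Nat.shiftLeft (Nat.lor (Nat.lor (Nat.lor TT_p61 (Nat.shiftLeft TT_p62 15996)) (Nat.shiftLeft (Nat.lor TT_p63 (Nat.shiftLeft TT_p64 15996)) 31992)) (Nat.shiftLeft (Nat.lor (Nat.lor TT_p65 (Nat.shiftLeft TT_p66 15996)) (Nat.shiftLeft (Nat.lor TT_p67 (Nat.shiftLeft (Nat.lor TT_p68 (Nat.shiftLeft TT_p69 15996)) 15996)) 31992)) 63984)) 143964)) 271932)) 559860)) (Nat.shiftLeft (Nat.lor (Nat.lor (Nat.lor (Nat.lor (Nat.lor (Nat.lor TT_p70 (Nat.shiftLeft TT_p71 15996)) (Nat.shiftLeft (Nat.lor TT_p72 (Nat.shiftLeft TT_p73 15996)) 31992)) (Nat.shiftLeft (Nat.lor (Nat.lor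 TT_p74 (Nat.shiftLeft TT_p75 15996)) (Nat.shiftLeft (Nat.lor TT_p76 (Nat.shiftLeft TT_p77 15996)) 31992)) 63984)) (Nat.shiftLeft (Nat.lor (Nat.lor (Nat.lor TT_p78 (Nat.shiftLeft TT_p79 15996)) (Nat.shiftLeft (Nat.lor TT_p80 (Nat.shiftLeft TT_p81 15996)) 31992)) (Nat.shiftLeft (Nat.lor (Nat.lor TT_p82 (Nat.shiftLeft TT_p83 15996)) (Nat.shiftLeft (Nat.lor TT_p84 (Nat.shiftLeft (Nat.lor TT_p85 (Nat.shiftLeft TT_p86 15996)) 15996)) 31992)) 63984)) 127968)) (Nat.shiftLeft (Nat.lor (Nat.lor (Nat.lor (Nat.lor TT_p87 (Nat.shiftLeft TT_p88 15996)) (Nat.shiftLeft (Nat.lor TT_p89 (Nat.shiftLeft TT_p90 15996)) 31992)) (Nat.shiftLeft (Nat.lor (Nat.lor TT_p91 (Nat.shiftLeft TT_p92 15996)) (Nat.shiftLeft (Nat.lor TT_p93 (Nat.shiftLeft (Nat.lor TT_p94 (Nat.shiftLeft TT_p95 15996)) 15996)) 31992)) 63984)) (Nat.shiftLeft (Nat.lor (Nat.lor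 (Nat.lor TT_p96 (Nat.shiftLeft TT_p97 15996)) (Nat.shiftLeft (Nat.lor TT_p98 (Nat.shiftLeft TT_p99 15996)) 31992)) (Nat.shiftLeft (Nat.lor (Nat.lor TT_p100 (Nat.shiftLeft TT_p101 15996)) (Nat.shiftLeft (Nat.lor TT_p102 (Nat.shiftLeft (Nat.lor TT_p103 (Nat.shiftLeft TT_p104 15996)) 15996)) 31992)) 63984)) 143964)) 271932)) (Nat.shiftLeft (Nat.lor (Nat.lor (Nat.lor (Nat.lor (Nat.lor TT_p105 (Nat.shiftLeft TT_p106 15996)) (Nat.shiftLeft (Nat.lor TT_p107 (Nat.shiftLeft TT_p108 15996)) 31992)) (Nat.shiftLeft (Nat.lor (Nat.lor TT_p109 (Nat.shiftLeft TT_p110 15996)) (Nat.shiftLeft (Nat.lor TT_p111 (Nat.shiftLeft (Nat.lor TT_p112 (Nat.shiftLeft TT_p113 15996)) 15996)) 31992)) 63984)) (Nat.shiftLeft (Nat.lor (Nat.lor (Nat.lor TT_p114 (Nat.shiftLeft TT_p115 15996)) (Nat.shiftLeft (Nat.lor TT_p116 (Nat.shiftLeft TT_p117 15996)) 31992))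 (Nat.shiftLeft (Nat.lor (Nat.lor TT_p118 (Nat.shiftLeft TT_p119 15996)) (Nat.shiftLeft (Nat.lor TT_p120 (Nat.shiftLeft (Nat.lor TT_p121 (Nat.shiftLeft TT_p122 15996)) 15996)) 31992)) 63984)) 143964)) (Nat.shiftLeft (Nat.lor (Nat.lor (Nat.lor (Nat.lor TT_p123 (Nat.shiftLeft TT_p124 15996)) (Nat.shiftLeft (Nat.lor TT_p125 (Nat.shiftLeft TT_p126 15996)) 31992)) (Nat.shiftLeft (Nat.lor (Nat.lor TT_p127 (Nat.shiftLeft TT_p128 15996)) (Nat.shiftLeft (Nat.lor TT_p129 (Nat.shiftLeft (Nat.lor TT_p130 (Nat.shiftLeft TT_p131 15996)) 15996)) 31992)) 63984)) (Nat.shiftLeft (Nat.lor (Nat.lor (Nat.lor TT_p132 (Nat.shiftLeft TT_p133 15996)) (Nat.shiftLeft (Nat.lor TT_p134 (Nat.shiftLeft TT_p135 15996)) 31992)) (Nat.shiftLeft (Nat.lor (Nat.lor TT_p136 (Nat.shiftLeft TT_p137 15996)) (Nat.shiftLeft (Nat.lor TT_p138 (Nat.shiftLeft (Nat.lor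 TT_p139 (Nat.shiftLeft TT_p140 15996)) 15996)) 31992)) 63984)) 143964)) 287928)) 559860)) 1119720))
noncomputable def TT_M1 : Nat := Nat.sub (Nat.shiftLeft 1 196608) 1
noncomputable def TT_M2 : Nat := Nat.sub (Nat.shiftLeft 1 768) 1
noncomputable def TT (p : Nat) : Nat :=
  force (Nat.shiftRight p 14) fun b1 => force (Nat.land (Nat.shiftRight p 6) 255) fun b2 =>
    Nat.land (Nat.shiftRight (Nat.land (Nat.shiftRight (Nat.land (Nat.shiftRight TT_T (Nat.mul b1 196608)) TT_M1) (Nat.mul b2 768)) TT_M2) (Nat.mul (Nat.land p 63) 12)) 4095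

noncomputable def F (g p : Nat) : Nat := TT (Nat.add (Nat.mul g 2058) p)

def progL : List (List Nat) := [
  [],
  [],
  [1, 0, 1, 0, 0, 0, 0, 0, 0, 1, 1, 0, 0, 0, 0, 0, 1, 1, 0, 1, 1, 0, 0, 0, 0, 0, 0, 0, 1, 0, 0, 0, 1, 1],
  [1, 0, 0, 1, 0, 0, 0, 0, 1, 0, 0, 1, 1, 1, 0, 0, 0, 0, 1, 0, 0, 1, 0, 0, 0, 1, 0, 0, 1, 0, 0, 0, 1, 1, 0],
  [3, 3, 3, 3, 2, 3, 3, 2, 3, 3, 2, 3, 3, 2, 3, 2, 2, 3, 3, 2, 2, 2, 2, 3, 2, 2, 2, 3, 2, 3, 3, 3, 3, 2, 3, 3, 3, 2, 3],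
  [3, 3, 3, 2, 3, 2, 3, 3, 2, 3, 3, 3, 3, 2, 2, 2, 3, 2, 2, 3, 2, 3, 3, 2, 3, 3, 2, 3, 2, 3, 2, 2, 2, 3, 3, 2, 2, 3],
  [3, 2, 3, 2, 3, 3, 3, 3, 3, 2, 3, 2, 3, 2, 3, 2, 3, 2, 3, 3, 2, 2, 2, 2, 2, 2, 3, 3, 2, 2, 3, 3, 2, 3, 2],
  [2, 3, 3, 2, 3, 3, 3, 2, 3, 3, 2, 3, 2, 3, 2, 3, 3, 3, 2, 3, 2, 2, 2, 2, 3, 3, 2, 3, 3, 2, 2, 3, 3, 3, 3, 3, 2, 3, 3, 2],
  [2, 3, 2, 3, 2, 3, 3, 2, 3, 3, 2, 3, 2, 3, 2, 3, 2, 3, 2, 2, 2, 2, 2, 2, 2, 3, 2, 2, 2, 3, 2, 3, 2, 2, 3, 2, 3],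
  [6, 7, 5, 4, 6, 7, 7, 6, 7, 4, 7, 5, 4, 4, 4, 5, 5, 8, 5, 7, 5, 5, 6, 8, 6, 8, 4, 4],
  [4, 7, 7, 6, 8, 4, 4, 8, 4, 5, 7, 8, 7, 7, 6, 7, 8, 6, 4, 5, 8, 6, 7, 6, 8, 8, 4],
  [0, 1, 1, 0, 0, 0, 1, 0, 0, 0, 0, 0, 0, 0, 0, 1, 1, 0, 0, 1, 1, 0, 1, 1],
  [11, 11, 11, 11, 11, 11, 11, 11, 11, 11, 11, 11, 11, 11, 11, 11],
  [1, 12, 1, 11],
  [0, 1, 0, 1, 0, 1, 1, 0, 1, 1, 0, 1, 0, 0, 0, 0, 0, 1, 0, 1, 0, 0, 0, 1],
  [14, 14, 14, 14, 14],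
  [1, 15, 1, 14],
  [1, 0, 1, 0, 1, 0, 0, 1, 0, 1, 0, 1, 1, 0, 1, 0, 0, 1, 1, 1, 0, 1, 1, 0],
  [17, 17],
  [1, 18, 1, 17],
  [0, 1, 0, 0, 0, 0, 0, 0, 1, 0, 0, 1, 0, 0, 1, 0, 0, 0, 1, 1, 1, 0, 1, 0],
  [20, 20],
  [1, 21, 1, 20],
  [1, 0, 0, 0, 1, 1, 0, 0, 0, 1, 1, 1, 0, 0, 1, 0, 0, 1, 0, 0, 0, 0, 0, 0],
  [23, 23, 23, 23, 23, 23, 23, 23, 23, 23, 23, 23, 23, 23, 23, 23, 23, 23, 23, 23, 23, 23, 23, 23, 23, 23, 23],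
  [1, 24, 1, 23],
  [0, 0, 1, 1, 0, 1, 1, 1, 1, 1, 0, 0, 0, 0, 0, 0, 0, 1, 0, 0, 0, 0, 0, 0],
  [26, 26, 26, 26, 26, 26, 26, 26, 26, 26, 26, 26, 26],
  [1, 27, 1, 26],
  [13, 13, 13],
  [16, 16],
  [19, 19],
  [22, 22, 22],
  [25, 25, 25],
  [28, 28, 28],
  [31, 34, 32, 31, 34, 29, 30, 31, 30, 32, 30, 32, 31, 34, 32, 32, 32, 33, 34, 30, 31, 29, 32, 33, 32, 32],
  [30, 33, 32, 34, 31, 34, 32, 31, 33, 29, 29, 32, 29, 31, 30, 32, 31, 32, 34, 29, 33, 29, 34, 31, 34, 31, 33, 30, 33, 34, 29],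
  [31, 34, 30, 33, 30, 32, 34, 31, 32, 29, 32, 30, 34, 33, 33, 34, 31, 30, 29, 34, 34, 34, 32, 32, 33, 33, 29, 32],
  [31, 34, 31, 33, 34, 32, 29, 32, 33, 33, 34, 29, 32, 32, 31, 31, 33, 33, 33, 32, 30, 34, 33, 30, 32, 33, 32, 30, 32, 30, 33],
  [31, 34, 32, 30, 32, 33, 32, 34, 33, 34, 29, 29, 34, 29, 31, 29, 30, 30, 33, 32, 34, 33, 34, 29, 30, 34, 31, 33, 31, 34],
  [32, 33, 30, 34, 30, 34, 34, 30, 34, 32, 30, 31, 30, 31, 29, 30, 30, 31, 33, 29, 33, 32, 30, 33, 29, 33, 31, 31, 30, 30],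
  [32, 29, 31, 34, 30, 31, 33, 30, 33, 31, 30, 30, 34, 33, 29, 34, 32, 33, 33, 32, 29, 32, 34, 33, 31, 29, 33, 31, 29, 34],
  [0, 1, 1, 1, 0, 0, 1, 1, 1, 0, 0, 0, 1, 0, 0, 1, 1, 1, 0, 0, 1, 0, 1, 1],
  [1, 1, 0, 1, 1, 1, 0, 1, 1, 0, 0, 0, 0, 1, 1, 1, 1, 0, 0, 1, 0, 1, 0, 0],
  [0, 1, 0, 0, 0, 1, 0, 0, 1, 0, 0, 1, 1, 1, 1, 0, 0, 0, 1, 0, 1, 0, 0, 0],
  [1, 0, 0, 0, 0, 1, 1, 0, 0, 0, 1, 1, 0, 0, 1, 1, 1, 0, 0, 0, 0, 0, 0, 0],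
  [1, 0, 1, 0, 1, 0, 0, 0, 0, 1, 1, 0, 1, 1, 0, 1, 0, 1, 1, 1, 1, 1, 1, 0],
  [1, 1, 0, 1, 1, 1, 0, 1, 0, 0, 1, 1, 0, 1, 1, 1, 1, 1, 0, 0, 0, 0, 1, 1],
  [42, 42, 42, 42, 42, 42],
  [43, 43, 43, 43, 43, 43, 43],
  [44, 44],
  [45, 45, 45, 45, 45, 45, 45],
  [46, 46, 46, 46, 46, 46],
  [47, 47, 47],
  [9, 10, 6, 4, 4, 2, 3, 2, 3, 3, 2, 3, 3, 3, 3, 3, 2, 3, 2, 3],
  [9, 10, 4, 8, 7, 5, 8, 3, 3, 2, 3, 3, 2, 3, 3, 3, 3, 3, 3, 3],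
  [2, 3, 3, 3, 3, 3, 3, 2, 3, 3, 2],
  [9, 10, 5, 8, 7, 3, 3, 3, 2, 3, 2, 3, 3, 2, 3, 3, 3, 3, 3, 3, 0, 0, 1, 0, 0, 0, 0, 1, 0, 0, 0, 0, 1, 0, 0, 1, 0],
  [9, 7, 6, 4, 5, 8, 3, 3, 2, 3, 2, 3, 3, 2, 3, 2, 3, 3, 3, 2, 1, 0, 0, 0, 1, 0, 0, 0, 0, 0, 1, 0, 0, 0, 1, 0, 0, 0, 0, 1],
  [4, 4, 7, 4, 7, 3, 2, 3, 2, 3, 3, 3, 2, 3, 3, 2, 3, 3, 1, 0, 0, 0, 0, 0, 0, 0, 0, 1, 0, 0, 0, 0, 0, 1, 0, 1],
  [9, 10, 4, 7, 4, 5, 3, 3, 2, 3, 3, 3, 3, 3, 2, 3, 3, 2, 3, 3, 3, 3, 3, 3, 0, 1, 0, 0, 0],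
  [9, 10, 4, 4, 4, 8, 7, 6, 2, 3, 3, 3, 3, 3, 2, 3, 2, 0, 0, 1, 0, 0, 0, 0, 1, 0, 0, 0, 0, 0],
  [9, 7, 6, 7, 2, 3, 3, 3, 3, 3, 2, 3, 3, 2, 0, 0, 0, 0, 1, 0, 0, 0, 0, 0, 0, 0, 0, 1, 0, 0, 1],
  [10, 5, 7, 4, 4, 3, 2, 3, 2, 3, 3, 3, 3, 3, 2, 3, 2, 3, 3, 3, 2, 1, 0, 0, 0, 1, 0, 0, 1, 0, 0, 1, 0, 0, 0, 0, 1, 0, 0, 1],
  [9, 7, 5, 4, 7, 2, 3, 3, 3, 2, 3, 2, 3, 3, 3, 3, 2, 3, 3, 2, 0, 0, 0, 1, 0, 0, 0, 0, 1, 0, 0, 0, 1, 0, 0, 1, 0, 0, 1, 0, 1],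
  [54, 55]]
def prog (g : Nat) : List Nat := progL.getD g []

def prog2L : List (List Nat) := [
  [],
  [],
  [],
  [],
  [],
  [],
  [],
  [70, 71, 67, 69, 72, 67, 69, 72, 71, 71, 66, 72, 72, 66, 69, 66, 71, 67, 71, 68, 66, 66, 66, 67, 70, 69, 70, 72, 66, 69, 68, 66, 67, 70, 67, 69, 71, 67, 72, 67],
  [73],
  [67, 67, 70, 67, 66, 68, 71, 72, 69, 69, 71, 70, 69, 68, 66, 70, 66, 71, 69, 67, 66, 69, 70, 67],
  [75, 75],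
  [71, 68, 67, 66, 72, 69, 67, 69, 72, 72, 67, 71, 69, 69, 66, 71, 66, 72, 66, 72, 70, 66, 69, 70],
  [77, 77, 77, 77, 77, 77, 77, 77, 77, 77, 77, 77, 77, 77],
  [71, 68, 72, 67, 71, 70, 69, 68, 72, 70, 66, 68, 69, 70, 71, 71, 72, 71, 67, 69, 70, 67, 68, 72],
  [79, 79, 79, 79, 79, 79, 79, 79, 79, 79, 79, 79, 79, 79],
  [72, 70, 66, 70, 69, 71, 67, 66, 66, 72, 70, 71, 69, 71, 70, 67, 70, 67, 66, 66, 67, 70, 70, 67],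
  [81, 81, 81, 81, 81, 81, 81, 81, 81, 81, 81, 81, 81, 81],
  [72, 66, 71, 70, 69, 71, 67, 69, 66, 71, 68, 69, 66, 71, 72, 70, 67, 66, 66, 72, 69, 66, 66, 70],
  [83, 83, 83, 83],
  [68, 70, 71, 66, 68, 70, 67, 67, 72, 72, 68, 67, 71, 72, 70, 72, 68, 67, 69, 69, 70, 69, 69, 67],
  [85, 85],
  [76, 78, 80, 82, 78, 84, 86, 84, 78, 82, 80, 78, 76]]
def prog2 (g : Nat) : List Nat := prog2L.getD (g - 66) []

noncomputable def dL0_pt_T : Nat := (Nat.lor dL0_pt_p0 (Nat.shiftLeft dL0_pt_p1 15996))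
noncomputable def dL0_pt_M1 : Nat := Nat.sub (Nat.shiftLeft 1 49152) 1
noncomputable def dL0_pt_M2 : Nat := Nat.sub (Nat.shiftLeft 1 384) 1
noncomputable def dL0_pt (p : Nat) : Nat :=
  force (Nat.shiftRight p 12) fun b1 => force (Nat.land (Nat.shiftRight p 5) 127) fun b2 =>
    Nat.land (Nat.shiftRight (Nat.land (Nat.shiftRight (Nat.land (Nat.shiftRight dL0_pt_T (Nat.mul b1 49152)) dL0_pt_M1) (Nat.mul b2 384)) dL0_pt_M2) (Nat.mul (Nat.land p 31) 12)) 4095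

noncomputable def dL0_pi_T : Nat := (Nat.lor dL0_pi_p0 (Nat.shiftLeft dL0_pi_p1 15996))
noncomputable def dL0_pi_M1 : Nat := Nat.sub (Nat.shiftLeft 1 49152) 1
noncomputable def dL0_pi_M2 : Nat := Nat.sub (Nat.shiftLeft 1 384) 1
noncomputable def dL0_pi (p : Nat) : Nat :=
  force (Nat.shiftRight p 12) fun b1 => force (Nat.land (Nat.shiftRight p 5) 127) fun b2 =>
    Nat.land (Nat.shiftRight (Nat.land (Nat.shiftRight (Nat.land (Nat.shiftRight dL0_pi_T (Nat.mul b1 49152)) dL0_pi_M1) (Nat.mul b2 384)) dL0_pi_M2) (Nat.mul (Nat.land p 31) 12)) 4095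

noncomputable def dL0_tr_T : Nat := (Nat.lor dL0_tr_p0 (Nat.shiftLeft dL0_tr_p1 15990))
noncomputable def dL0_tr_M1 : Nat := Nat.sub (Nat.shiftLeft 1 53248) 1
noncomputable def dL0_tr_M2 : Nat := Nat.sub (Nat.shiftLeft 1 416) 1
noncomputable def dL0_tr (p : Nat) : Nat :=
  force (Nat.shiftRight p 12) fun b1 => force (Nat.land (Nat.shiftRight p 5) 127) fun b2 =>
    Nat.land (Nat.shiftRight (Nat.land (Nat.shiftRight (Nat.land (Nat.shiftRight dL0_tr_T (Nat.mul b1 53248)) dL0_tr_M1) (Nat.mul b2 416)) dL0_tr_M2) (Nat.mul (Nat.land p 31) 13)) 8191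

noncomputable def dL0 : LevD := ⟨0, 2058, 2, 0, dL0_pt, dL0_pi, dL0_tr⟩

noncomputable def dL1_pt_T : Nat := (Nat.lor dL1_pt_p0 (Nat.shiftLeft dL1_pt_p1 15996))
noncomputable def dL1_pt_M1 : Nat := Nat.sub (Nat.shiftLeft 1 49152) 1
noncomputable def dL1_pt_M2 : Nat := Nat.sub (Nat.shiftLeft 1 384) 1
noncomputable def dL1_pt (p : Nat) : Nat :=
  force (Nat.shiftRight p 12) fun b1 => force (Nat.land (Nat.shiftRight p 5) 127) fun b2 =>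
    Nat.land (Nat.shiftRight (Nat.land (Nat.shiftRight (Nat.land (Nat.shiftRight dL1_pt_T (Nat.mul b1 49152)) dL1_pt_M1) (Nat.mul b2 384)) dL1_pt_M2) (Nat.mul (Nat.land p 31) 12)) 4095

noncomputable def dL1_pi_T : Nat := (Nat.lor dL1_pi_p0 (Nat.shiftLeft dL1_pi_p1 15994))
noncomputable def dL1_pi_M1 : Nat := Nat.sub (Nat.shiftLeft 1 45056) 1
noncomputable def dL1_pi_M2 : Nat := Nat.sub (Nat.shiftLeft 1 352) 1
noncomputable def dL1_pi (p : Nat) : Nat :=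
  force (Nat.shiftRight p 12) fun b1 => force (Nat.land (Nat.shiftRight p 5) 127) fun b2 =>
    Nat.land (Nat.shiftRight (Nat.land (Nat.shiftRight (Nat.land (Nat.shiftRight dL1_pi_T (Nat.mul b1 45056)) dL1_pi_M1) (Nat.mul b2 352)) dL1_pi_M2) (Nat.mul (Nat.land p 31) 11)) 2047

noncomputable def dL1_tr_T : Nat := (Nat.lor dL1_tr_p0 (Nat.shiftLeft dL1_tr_p1 15996))
noncomputable def dL1_tr_M1 : Nat := Nat.sub (Nat.shiftLeft 1 49152) 1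
noncomputable def dL1_tr_M2 : Nat := Nat.sub (Nat.shiftLeft 1 384) 1
noncomputable def dL1_tr (p : Nat) : Nat :=
  force (Nat.shiftRight p 12) fun b1 => force (Nat.land (Nat.shiftRight p 5) 127) fun b2 =>
    Nat.land (Nat.shiftRight (Nat.land (Nat.shiftRight (Nat.land (Nat.shiftRight dL1_tr_T (Nat.mul b1 49152)) dL1_tr_M1) (Nat.mul b2 384)) dL1_tr_M2) (Nat.mul (Nat.land p 31) 12)) 4095

noncomputable def dL1 : LevD := ⟨1, 1360, 2, 2, dL1_pt, dL1_pi, dL1_tr⟩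

noncomputable def dL2_pt_T : Nat := dL2_pt_p0
noncomputable def dL2_pt_M1 : Nat := Nat.sub (Nat.shiftLeft 1 49152) 1
noncomputable def dL2_pt_M2 : Nat := Nat.sub (Nat.shiftLeft 1 384) 1
noncomputable def dL2_pt (p : Nat) : Nat :=
  force (Nat.shiftRight p 12) fun b1 => force (Nat.land (Nat.shiftRight p 5) 127) fun b2 =>
    Nat.land (Nat.shiftRight (Nat.land (Nat.shiftRight (Nat.land (Nat.shiftRight dL2_pt_T (Nat.mul b1 49152)) dL2_pt_M1) (Nat.mul b2 384)) dL2_pt_M2) (Nat.mul (Nat.land p 31) 12)) 4095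

noncomputable def dL2_pi_T : Nat := (Nat.lor dL2_pi_p0 (Nat.shiftLeft dL2_pi_p1 15993))
noncomputable def dL2_pi_M1 : Nat := Nat.sub (Nat.shiftLeft 1 36864) 1
noncomputable def dL2_pi_M2 : Nat := Nat.sub (Nat.shiftLeft 1 288) 1
noncomputable def dL2_pi (p : Nat) : Nat :=
  force (Nat.shiftRight p 12) fun b1 => force (Nat.land (Nat.shiftRight p 5) 127) fun b2 =>
    Nat.land (Nat.shiftRight (Nat.land (Nat.shiftRight (Nat.land (Nat.shiftRight dL2_pi_T (Nat.mul b1 36864)) dL2_pi_M1) (Nat.mul b2 288)) dL2_pi_M2) (Nat.mul (Nat.land p 31) 9)) 511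

noncomputable def dL2_tr_T : Nat := dL2_tr_p0
noncomputable def dL2_tr_M1 : Nat := Nat.sub (Nat.shiftLeft 1 45056) 1
noncomputable def dL2_tr_M2 : Nat := Nat.sub (Nat.shiftLeft 1 352) 1
noncomputable def dL2_tr (p : Nat) : Nat :=
  force (Nat.shiftRight p 12) fun b1 => force (Nat.land (Nat.shiftRight p 5) 127) fun b2 =>
    Nat.land (Nat.shiftRight (Nat.land (Nat.shiftRight (Nat.land (Nat.shiftRight dL2_tr_T (Nat.mul b1 45056)) dL2_tr_M1) (Nat.mul b2 352)) dL2_tr_M2) (Nat.mul (Nat.land p 31) 11)) 2047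

noncomputable def dL2 : LevD := ⟨15, 360, 5, 4, dL2_pt, dL2_pi, dL2_tr⟩

noncomputable def dL3_pt_T : Nat := dL3_pt_p0
noncomputable def dL3_pt_M1 : Nat := Nat.sub (Nat.shiftLeft 1 49152) 1
noncomputable def dL3_pt_M2 : Nat := Nat.sub (Nat.shiftLeft 1 384) 1
noncomputable def dL3_pt (p : Nat) : Nat :=
  force (Nat.shiftRight p 12) fun b1 => force (Nat.land (Nat.shiftRight p 5) 127) fun b2 =>
    Nat.land (Nat.shiftRight (Nat.land (Nat.shiftRight (Nat.land (Nat.shiftRight dL3_pt_T (Nat.mul b1 49152)) dL3_pt_M1) (Nat.mul b2 384)) dL3_pt_M2) (Nat.mul (Nat.land p 31) 12)) 4095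

noncomputable def dL3_pi_T : Nat := dL3_pi_p0
noncomputable def dL3_pi_M1 : Nat := Nat.sub (Nat.shiftLeft 1 12288) 1
noncomputable def dL3_pi_M2 : Nat := Nat.sub (Nat.shiftLeft 1 96) 1
noncomputable def dL3_pi (p : Nat) : Nat :=
  force (Nat.shiftRight p 12) fun b1 => force (Nat.land (Nat.shiftRight p 5) 127) fun b2 =>
    Nat.land (Nat.shiftRight (Nat.land (Nat.shiftRight (Nat.land (Nat.shiftRight dL3_pi_T (Nat.mul b1 12288)) dL3_pi_M1) (Nat.mul b2 96)) dL3_pi_M2) (Nat.mul (Nat.land p 31) 3)) 7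

noncomputable def dL3_tr_T : Nat := dL3_tr_p0
noncomputable def dL3_tr_M1 : Nat := Nat.sub (Nat.shiftLeft 1 8192) 1
noncomputable def dL3_tr_M2 : Nat := Nat.sub (Nat.shiftLeft 1 64) 1
noncomputable def dL3_tr (p : Nat) : Nat :=
  force (Nat.shiftRight p 12) fun b1 => force (Nat.land (Nat.shiftRight p 5) 127) fun b2 =>
    Nat.land (Nat.shiftRight (Nat.land (Nat.shiftRight (Nat.land (Nat.shiftRight dL3_tr_T (Nat.mul b1 8192)) dL3_tr_M1) (Nat.mul b2 64)) dL3_tr_M2) (Nat.mul (Nat.land p 31) 2)) 3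

noncomputable def dL3 : LevD := ⟨34, 4, 2, 9, dL3_pt, dL3_pi, dL3_tr⟩

noncomputable def cL0_pt_T : Nat := cL0_pt_p0
noncomputable def cL0_pt_M1 : Nat := Nat.sub (Nat.shiftLeft 1 49152) 1
noncomputable def cL0_pt_M2 : Nat := Nat.sub (Nat.shiftLeft 1 384) 1
noncomputable def cL0_pt (p : Nat) : Nat :=
  force (Nat.shiftRight p 12) fun b1 => force (Nat.land (Nat.shiftRight p 5) 127) fun b2 =>
    Nat.land (Nat.shiftRight (Nat.land (Nat.shiftRight (Nat.land (Nat.shiftRight cL0_pt_T (Nat.mul b1 49152)) cL0_pt_M1) (Nat.mul b2 384)) cL0_pt_M2) (Nat.mul (Nat.land p 31) 12)) 4095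

noncomputable def cL0_pi_T : Nat := (Nat.lor cL0_pi_p0 (Nat.shiftLeft cL0_pi_p1 16000))
noncomputable def cL0_pi_M1 : Nat := Nat.sub (Nat.shiftLeft 1 40960) 1
noncomputable def cL0_pi_M2 : Nat := Nat.sub (Nat.shiftLeft 1 320) 1
noncomputable def cL0_pi (p : Nat) : Nat :=
  force (Nat.shiftRight p 12) fun b1 => force (Nat.land (Nat.shiftRight p 5) 127) fun b2 =>
    Nat.land (Nat.shiftRight (Nat.land (Nat.shiftRight (Nat.land (Nat.shiftRight cL0_pi_T (Nat.mul b1 40960)) cL0_pi_M1) (Nat.mul b2 320)) cL0_pi_M2) (Nat.mul (Nat.land p 31) 10)) 1023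

noncomputable def cL0_tr_T : Nat := cL0_tr_p0
noncomputable def cL0_tr_M1 : Nat := Nat.sub (Nat.shiftLeft 1 53248) 1
noncomputable def cL0_tr_M2 : Nat := Nat.sub (Nat.shiftLeft 1 416) 1
noncomputable def cL0_tr (p : Nat) : Nat :=
  force (Nat.shiftRight p 12) fun b1 => force (Nat.land (Nat.shiftRight p 5) 127) fun b2 =>
    Nat.land (Nat.shiftRight (Nat.land (Nat.shiftRight (Nat.land (Nat.shiftRight cL0_tr_T (Nat.mul b1 53248)) cL0_tr_M1) (Nat.mul b2 416)) cL0_tr_M2) (Nat.mul (Nat.land p 31) 13)) 8191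

noncomputable def cL0 : LevD := ⟨1, 840, 6, 29, cL0_pt, cL0_pi, cL0_tr⟩

noncomputable def cL1_pt_T : Nat := cL1_pt_p0
noncomputable def cL1_pt_M1 : Nat := Nat.sub (Nat.shiftLeft 1 49152) 1
noncomputable def cL1_pt_M2 : Nat := Nat.sub (Nat.shiftLeft 1 384) 1
noncomputable def cL1_pt (p : Nat) : Nat :=
  force (Nat.shiftRight p 12) fun b1 => force (Nat.land (Nat.shiftRight p 5) 127) fun b2 =>
    Nat.land (Nat.shiftRight (Nat.land (Nat.shiftRight (Nat.land (Nat.shiftRight cL1_pt_T (Nat.mul b1 49152)) cL1_pt_M1) (Nat.mul b2 384)) cL1_pt_M2) (Nat.mul (Nat.land p 31) 12)) 4095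

noncomputable def cL1_pi_T : Nat := (Nat.lor cL1_pi_p0 (Nat.shiftLeft cL1_pi_p1 16000))
noncomputable def cL1_pi_M1 : Nat := Nat.sub (Nat.shiftLeft 1 32768) 1
noncomputable def cL1_pi_M2 : Nat := Nat.sub (Nat.shiftLeft 1 256) 1
noncomputable def cL1_pi (p : Nat) : Nat :=
  force (Nat.shiftRight p 12) fun b1 => force (Nat.land (Nat.shiftRight p 5) 127) fun b2 =>
    Nat.land (Nat.shiftRight (Nat.land (Nat.shiftRight (Nat.land (Nat.shiftRight cL1_pi_T (Nat.mul b1 32768)) cL1_pi_M1) (Nat.mul b2 256)) cL1_pi_M2) (Nat.mul (Nat.land p 31) 8)) 255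

noncomputable def cL1_tr_T : Nat := cL1_tr_p0
noncomputable def cL1_tr_M1 : Nat := Nat.sub (Nat.shiftLeft 1 40960) 1
noncomputable def cL1_tr_M2 : Nat := Nat.sub (Nat.shiftLeft 1 320) 1
noncomputable def cL1_tr (p : Nat) : Nat :=
  force (Nat.shiftRight p 12) fun b1 => force (Nat.land (Nat.shiftRight p 5) 127) fun b2 =>
    Nat.land (Nat.shiftRight (Nat.land (Nat.shiftRight (Nat.land (Nat.shiftRight cL1_tr_T (Nat.mul b1 40960)) cL1_tr_M1) (Nat.mul b2 320)) cL1_tr_M2) (Nat.mul (Nat.land p 31) 10)) 1023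

noncomputable def cL1 : LevD := ⟨41, 192, 7, 35, cL1_pt, cL1_pi, cL1_tr⟩

noncomputable def ds : List LevD := [dL0, dL1, dL2, dL3]
noncomputable def cs : List LevD := [cL0, cL1]

noncomputable def FPL_T : Nat := (Nat.lor (Nat.lor (Nat.lor (Nat.lor FPL_p0 (Nat.shiftLeft (Nat.lor FPL_p1 (Nat.shiftLeft FPL_p2 15984)) 15984)) (Nat.shiftLeft (Nat.lor (Nat.lor FPL_p3 (Nat.shiftLeft FPL_p4 15984)) (Nat.shiftLeft (Nat.lor FPL_p5 (Nat.shiftLeft FPL_p6 15984)) 31968)) 47952)) (Nat.shiftLeft (Nat.lor (Nat.lor FPL_p7 (Nat.shiftLeft (Nat.lor FPL_p8 (Nat.shiftLeft FPL_p9 15984)) 15984)) (Nat.shiftLeft (Nat.lor (Nat.lor FPL_p10 (Nat.shiftLeft FPL_p11 15984)) (Nat.shiftLeft (Nat.lor FPL_p12 (Nat.shiftLeft FPL_p13 15984)) 31968)) 47952)) 111888)) (Nat.shiftLeft (Nat.lor (Nat.lor (Nat.lor FPL_p14 (Nat.shiftLeft (Nat.lor FPL_p15 (Nat.shiftLeft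 FPL_p16 15984)) 15984)) (Nat.shiftLeft (Nat.lor (Nat.lor FPL_p17 (Nat.shiftLeft FPL_p18 15984)) (Nat.shiftLeft (Nat.lor FPL_p19 (Nat.shiftLeft FPL_p20 15984)) 31968)) 47952)) (Nat.shiftLeft (Nat.lor (Nat.lor (Nat.lor FPL_p21 (Nat.shiftLeft FPL_p22 15984)) (Nat.shiftLeft (Nat.lor FPL_p23 (Nat.shiftLeft FPL_p24 15984)) 31968)) (Nat.shiftLeft (Nat.lor (Nat.lor FPL_p25 (Nat.shiftLeft FPL_p26 15984)) (Nat.shiftLeft (Nat.lor FPL_p27 (Nat.shiftLeft FPL_p28 15984)) 31968)) 63936)) 111888)) 223776))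
noncomputable def FPL_M1 : Nat := Nat.sub (Nat.shiftLeft 1 73728) 1
noncomputable def FPL_M2 : Nat := Nat.sub (Nat.shiftLeft 1 576) 1
noncomputable def FPL (p : Nat) : Nat :=
  force (Nat.shiftRight p 12) fun b1 => force (Nat.land (Nat.shiftRight p 5) 127) fun b2 =>
    Nat.land (Nat.shiftRight (Nat.land (Nat.shiftRight (Nat.land (Nat.shiftRight FPL_T (Nat.mul b1 73728)) FPL_M1) (Nat.mul b2 576)) FPL_M2) (Nat.mul (Nat.land p 31) 18)) 262143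

noncomputable def DD : Frs := ⟨1, 7542, FPL, 6, 48, 8, 24990, [593, 1842, 1165, 1713]⟩

noncomputable def SPK_T : Nat := (Nat.lor SPK_p0 (Nat.shiftLeft SPK_p1 15985))
noncomputable def SPK_M1 : Nat := Nat.sub (Nat.shiftLeft 1 94208) 1
noncomputable def SPK_M2 : Nat := Nat.sub (Nat.shiftLeft 1 736) 1
noncomputable def SPK (p : Nat) : Nat :=
  force (Nat.shiftRight p 12) fun b1 => force (Nat.land (Nat.shiftRight p 5) 127) fun b2 =>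
    Nat.land (Nat.shiftRight (Nat.land (Nat.shiftRight (Nat.land (Nat.shiftRight SPK_T (Nat.mul b1 94208)) SPK_M1) (Nat.mul b2 736)) SPK_M2) (Nat.mul (Nat.land p 31) 23)) 8388607

noncomputable def SCN_T : Nat := SCN_p0
noncomputable def SCN_M1 : Nat := Nat.sub (Nat.shiftLeft 1 36864) 1
noncomputable def SCN_M2 : Nat := Nat.sub (Nat.shiftLeft 1 288) 1
noncomputable def SCN (p : Nat) : Nat :=
  force (Nat.shiftRight p 12) fun b1 => force (Nat.land (Nat.shiftRight p 5) 127) fun b2 =>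
    Nat.land (Nat.shiftRight (Nat.land (Nat.shiftRight (Nat.land (Nat.shiftRight SCN_T (Nat.mul b1 36864)) SCN_M1) (Nat.mul b2 288)) SCN_M2) (Nat.mul (Nat.land p 31) 9)) 511

noncomputable def WPT_T : Nat := WPT_p0
noncomputable def WPT_M1 : Nat := Nat.sub (Nat.shiftLeft 1 49152) 1
noncomputable def WPT_M2 : Nat := Nat.sub (Nat.shiftLeft 1 384) 1
noncomputable def WPT (p : Nat) : Nat :=
  force (Nat.shiftRight p 12) fun b1 => force (Nat.land (Nat.shiftRight p 5) 127) fun b2 =>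
    Nat.land (Nat.shiftRight (Nat.land (Nat.shiftRight (Nat.land (Nat.shiftRight WPT_T (Nat.mul b1 49152)) WPT_M1) (Nat.mul b2 384)) WPT_M2) (Nat.mul (Nat.land p 31) 12)) 4095

noncomputable def WPI_T : Nat := (Nat.lor WPI_p0 (Nat.shiftLeft (Nat.lor WPI_p1 (Nat.shiftLeft WPI_p2 16000)) 16000))
noncomputable def WPI_M1 : Nat := Nat.sub (Nat.shiftLeft 1 32768) 1
noncomputable def WPI_M2 : Nat := Nat.sub (Nat.shiftLeft 1 256) 1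
noncomputable def WPI (p : Nat) : Nat :=
  force (Nat.shiftRight p 12) fun b1 => force (Nat.land (Nat.shiftRight p 5) 127) fun b2 =>
    Nat.land (Nat.shiftRight (Nat.land (Nat.shiftRight (Nat.land (Nat.shiftRight WPI_T (Nat.mul b1 32768)) WPI_M1) (Nat.mul b2 256)) WPI_M2) (Nat.mul (Nat.land p 31) 8)) 255

def sqL : List Nat := [0, 0, 0, 0, 0, 0, 0, 34, 51, 89]
def wlL : List Nat := [0, 0, 0, 1, 1, 1, 1, 1, 1, 1]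
def wsL : List Nat := [1, 2, 4, 1, 2, 4, 8, 16, 32, 64]
def wbL : List Nat := [1, 0]
def wmL : List Nat := [8, 128]
noncomputable def SS : PcD where
  off := 54
  a := 10
  sq := fun k => sqL.getD k 0
  cn := SCN
  wl := fun k => wlL.getD k 0
  ws := fun k => wsL.getD k 0
  wb := fun k => wbL.getD k 0
  wpt := fun l i => WPT (Nat.add (Nat.mul l 128) i)
  wpi := fun l q => WPI (Nat.add (Nat.mul l 2058) q)
  wm := fun k => wmL.getD k 0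
  lv := 2
  pk := SPK

noncomputable def OPL0_T : Nat := (Nat.lor (Nat.lor (Nat.lor (Nat.lor OPL0_p0 (Nat.shiftLeft (Nat.lor OPL0_p1 (Nat.shiftLeft OPL0_p2 15984)) 15984)) (Nat.shiftLeft (Nat.lor (Nat.lor OPL0_p3 (Nat.shiftLeft OPL0_p4 15984)) (Nat.shiftLeft (Nat.lor OPL0_p5 (Nat.shiftLeft OPL0_p6 15984)) 31968)) 47952)) (Nat.shiftLeft (Nat.lor (Nat.lor OPL0_p7 (Nat.shiftLeft (Nat.lor OPL0_p8 (Nat.shiftLeft OPL0_p9 15984)) 15984)) (Nat.shiftLeft (Nat.lor (Nat.lor OPL0_p10 (Nat.shiftLeft OPL0_p11 15984)) (Nat.shiftLeft (Nat.lor OPL0_p12 (Nat.shiftLeft OPL0_p13 15984)) 31968)) 47952)) 111888)) (Nat.shiftLeft (Nat.lor (Nat.lor (Nat.lor OPL0_p14 (Nat.shiftLeft (Nat.lor OPL0_p15 (Nat.shiftLeft OPL0_p16 15984)) 15984)) (Nat.shiftLeft (Nat.lor (Nat.lor OPL0_p17 (Nat.shiftLeft OPL0_p18 15984)) (Nat.shiftLeft (Nat.lor OPL0_p19 (Nat.shiftLeft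 OPL0_p20 15984)) 31968)) 47952)) (Nat.shiftLeft (Nat.lor (Nat.lor (Nat.lor OPL0_p21 (Nat.shiftLeft OPL0_p22 15984)) (Nat.shiftLeft (Nat.lor OPL0_p23 (Nat.shiftLeft OPL0_p24 15984)) 31968)) (Nat.shiftLeft (Nat.lor (Nat.lor OPL0_p25 (Nat.shiftLeft OPL0_p26 15984)) (Nat.shiftLeft (Nat.lor OPL0_p27 (Nat.shiftLeft OPL0_p28 15984)) 31968)) 63936)) 111888)) 223776))
noncomputable def OPL0_M1 : Nat := Nat.sub (Nat.shiftLeft 1 73728) 1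
noncomputable def OPL0_M2 : Nat := Nat.sub (Nat.shiftLeft 1 576) 1
noncomputable def OPL0 (p : Nat) : Nat :=
  force (Nat.shiftRight p 12) fun b1 => force (Nat.land (Nat.shiftRight p 5) 127) fun b2 =>
    Nat.land (Nat.shiftRight (Nat.land (Nat.shiftRight (Nat.land (Nat.shiftRight OPL0_T (Nat.mul b1 73728)) OPL0_M1) (Nat.mul b2 576)) OPL0_M2) (Nat.mul (Nat.land p 31) 18)) 262143

noncomputable def OO0 : Frs := ⟨65, 20572, OPL0, 6, 48, 7, 24993, [1080, 1505, 1812, 297]⟩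

noncomputable def Os : List Frs := [OO0]

def wdsL : List (List Nat) := [
  [],
  [4, 7, 5, 8, 3, 3, 2, 3, 3, 3, 2, 3, 3, 2, 3, 3, 3, 3, 0, 0, 0, 1, 0],
  [4, 5, 4, 6, 8, 3, 3, 3, 3, 2, 3, 3, 3, 2, 3, 2, 0, 0, 0, 1, 0, 0, 0, 0, 1, 0, 0, 0, 1, 0, 0, 1, 0, 0, 1, 0, 0],
  [9, 10, 4, 7, 5, 2, 3, 3, 3, 2, 3, 2, 3, 3, 2, 3, 3, 2, 1, 0, 0, 0, 0, 0, 1, 0, 0, 0, 0, 0],
  [9, 6, 7, 5, 4, 8, 3, 3, 3, 2, 3, 2, 3, 2, 3, 0, 0, 0, 1, 0, 0, 0, 0, 1, 0, 0, 0, 0, 0, 0, 0, 1],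
  [9, 10, 4, 5, 4, 7, 8, 2, 3, 3, 2, 3, 3, 3, 2, 3, 2, 3, 2, 3, 3, 0, 0, 0, 0, 0, 0, 0, 1, 0, 0, 0, 0, 0, 1],
  [9, 4, 8, 7, 8, 7, 3, 3, 3, 2, 3, 3, 2, 3, 2, 3, 3, 1, 0],
  [10, 5, 4, 7, 6, 3, 3, 3, 2, 3, 3, 2, 3, 2, 3, 3, 3, 1, 0, 0, 0, 0, 1, 0, 0, 1, 0, 0, 0, 1, 0, 0, 0],
  [10, 4, 7, 6, 3, 3, 3, 2, 3, 3, 3, 2, 3, 2, 0, 0, 0, 1, 0, 0, 1, 0, 0, 1, 0, 0, 0, 0, 0, 0, 0, 0, 0, 1],
  [6, 4, 7, 5, 8, 3, 3, 2, 3, 2, 3, 3, 3, 3, 3, 3, 2, 3, 2, 3, 2, 0, 0, 0, 1, 0, 0, 1, 0, 0, 1, 0, 0, 0, 0, 1, 0, 0],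
  [10, 4, 7, 7, 6, 7, 3, 2, 3, 3, 3, 2, 3, 2, 3, 2, 3, 3, 3, 2, 3, 3, 1, 0, 0, 0, 0, 0, 0, 0, 0, 0, 1, 0, 0, 0, 0, 1, 0, 1],
  [9, 10, 4, 4, 5, 7, 2, 3, 3, 2, 3, 3, 2, 3, 3, 2, 3, 2, 1, 0, 0, 0, 0, 0, 0, 0, 0, 0, 0, 1, 0, 0, 0, 0],
  [5, 7, 5, 7, 7, 2, 3, 3, 3, 2, 3, 3, 2, 3, 2, 3, 3, 3, 2, 3, 3, 2, 1, 0, 0, 0, 0, 0, 0, 1, 0, 0, 0, 1, 0, 1],
  [9, 10, 4, 5, 4, 7, 8, 2, 3, 3, 3, 2, 3, 2, 3, 3, 2, 3, 3, 2, 3, 2, 3, 1, 0, 0, 0, 0, 0, 0, 0, 0, 0, 0, 1, 0, 0, 0, 0, 0],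
  [5, 8, 7, 5, 8, 2, 3, 3, 3, 2, 3, 3, 3, 3, 2, 3, 2, 3, 2, 3, 3, 0, 0, 0, 0, 0, 0, 0, 1, 0, 0, 0, 0, 0, 0, 0, 0, 0, 1],
  [10, 6, 4, 7, 8, 3, 3, 3, 3, 3, 3, 2, 3, 3, 3, 3, 1, 0, 0, 0, 0, 1, 0, 0, 1, 0, 0, 0, 1, 0, 1]]
def wds (j : Nat) : List Nat := wdsL.getD j []

def Bs : List Nat := [0, 1, 15, 34]

def rs : List (List Bool × Nat × Nat) := [([true, false], 3, 1736),
  ([true, false], 3, 830),
  ([true, true, false, true, true, true, false, true, true, true, true, false], 4, 1597),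
  ([true, false], 3, 1350)]

def goods : List (Nat × Nat) := [(7542, 0), (19596, 1), (9680, 2), (13690, 3), (5139, 4), (4551, 5), (20321, 6), (10270, 7), (1353, 8), (21946, 9), (21656, 10), (18546, 11), (4907, 12), (6623, 13), (8938, 14), (13075, 15), (6910, 16)]

def goodIdx : List Nat := goods.map Prod.fst


end Cfsg.Agent.Lib.PermComp.OutP.He
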